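import Groth.Prelude.Def_LiftSq
import Groth.Prelude.Def_FibCat2
import Groth.Agent.FibC.Basic
import Groth.Agent.FibC.Fp
import Groth.Agent.StFib.Basic
import Groth.Agent.StkLib.Stack

/-!
Unique lifting against a fixed functor: stability under composition and base change.
-/

set_option autoImplicit false
set_option backward.isDefEq.respectTransparency false
set_option backward.isDefEq.respectTransparency.types false

universe v₆ u₆ v₅ u₅ v₄ u₄ v₃ u₃ v₂ u₂ v u

open CategoryTheory

namespace Groth.Agent.LiftSqLib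

variable {C : Type u} [Category.{v} C]
  {𝒜 : BasedCategory.{v₂, u₂} C} {ℬ : BasedCategory.{v₃, u₃} C}
  {𝒳 : BasedCategory.{v₄, u₄} C} {𝒴 : BasedCategory.{v₅, u₅} C}

theorem app_congr {F G : 𝒳 ⥤ᵇ 𝒴} {α β : F ⟶ G} (h : α = β) (x : 𝒳.obj) :
    α.toNatTrans.app x = β.toNatTrans.app x := by rw [h]

theorem ext_app {F G : 𝒳 ⥤ᵇ 𝒴} {α β : F ⟶ G}
    (h : ∀ x, α.toNatTrans.app x = β.toNatTrans.app x) : α = β :=
  BasedNatTrans.homCategory.ext _ _ (NatTrans.ext (funext h))

variable {j : 𝒜 ⥤ᵇ ℬ} {f : 𝒳 ⥤ᵇ 𝒴} {sq : LiftSq.Sq j f}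

theorem w_app (d : sq.Lift) (a : 𝒜.obj) :
    d.isoBot.hom.toNatTrans.app (j.toFunctor.obj a) ≫ f.toFunctor.map (d.isoTop.hom.toNatTrans.app a) =
      sq.iso.hom.toNatTrans.app a :=
  app_congr d.w a

theorem w_top_app {d d' : sq.Lift} (θ : d ⟶ d') (a : 𝒜.obj) :
    θ.hom.toNatTrans.app (j.toFunctor.obj a) ≫ d'.isoTop.hom.toNatTrans.app a =
      d.isoTop.hom.toNatTrans.app a :=
  app_congr θ.w_top a

theorem w_bot_app {d d' : sq.Lift} (θ : d ⟶ d') (b : ℬ.obj) :
    d.isoBot.hom.toNatTrans.app b ≫ f.toFunctor.map (θ.hom.toNatTrans.app b) =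
      d'.isoBot.hom.toNatTrans.app b :=
  app_congr θ.w_bot b

theorem unique_eq (h : sq.UniqLift) {d d' : sq.Lift} (θ θ' : d ⟶ d') : θ = θ' := by
  obtain ⟨hu⟩ := h d d'
  exact (hu.uniq θ).trans (hu.uniq θ').symm

/-- The isomorphism between two dotted arrows given by uniqueness. -/
theorem exists_liftIso (h : sq.UniqLift) (d d' : sq.Lift) :
    ∃ e : d.fn ≅ d'.fn, (∀ a, e.hom.toNatTrans.app (j.toFunctor.obj a) ≫ d'.isoTop.hom.toNatTrans.app a =
        d.isoTop.hom.toNatTrans.app a) ∧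
      ∀ b, d.isoBot.hom.toNatTrans.app b ≫ f.toFunctor.map (e.hom.toNatTrans.app b) =
        d'.isoBot.hom.toNatTrans.app b := by
  obtain ⟨h1⟩ := h d d'
  obtain ⟨h2⟩ := h d' d
  exact ⟨⟨h1.default.hom, h2.default.hom,
    congrArg LiftSq.Sq.Lift.Hom.hom (unique_eq h (h1.default ≫ h2.default) (𝟙 d)),
    congrArg LiftSq.Sq.Lift.Hom.hom (unique_eq h (h2.default ≫ h1.default) (𝟙 d'))⟩,
    w_top_app h1.default, w_bot_app h1.default⟩

theorem mk_unique {d d' : sq.Lift} (θ : d ⟶ d') (h : ∀ θ' : d ⟶ d', θ' = θ) :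
    Nonempty (Unique (d ⟶ d')) :=
  ⟨{ default := θ, uniq := h }⟩

theorem liftsUniquely_comp {𝒵 : BasedCategory.{v₆, u₆} C} {g : 𝒴 ⥤ᵇ 𝒵}
    (hf : LiftSq.LiftsUniquely j f) (hg : LiftSq.LiftsUniquely j g) :
    LiftSq.LiftsUniquely j (BasedFunctor.comp f g) := by
  intro sq
  let sq₁ : LiftSq.Sq j g := ⟨BasedFunctor.comp sq.top f, sq.bot, sq.iso⟩
  constructor
  · obtain ⟨d₁⟩ := (hg sq₁).1
    let sq₂ : LiftSq.Sq j f := ⟨sq.top, d₁.fn, d₁.isoTop⟩
    obtain ⟨d₂⟩ := (hf sq₂).1
    refine ⟨⟨d₂.fn, d₂.isoTop, d₁.isoBot ≪≫ StFib.isoWhiskerRight d₂.isoBot g, ext_app fun a => ?_⟩⟩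
    have h1 := w_app d₁ a
    have h2 := w_app d₂ a
    show (d₁.isoBot.hom.toNatTrans.app (j.toFunctor.obj a) ≫
        g.toFunctor.map (d₂.isoBot.hom.toNatTrans.app (j.toFunctor.obj a))) ≫
          g.toFunctor.map (f.toFunctor.map (d₂.isoTop.hom.toNatTrans.app a)) = _
    rw [Category.assoc, ← g.toFunctor.map_comp, h2]
    exact h1
  · intro d d'
    let D : sq₁.Lift := ⟨BasedFunctor.comp d.fn f, StFib.isoWhiskerRight d.isoTop f, d.isoBot, d.w⟩
    let D' : sq₁.Lift := ⟨BasedFunctor.comp d'.fn f, StFib.isoWhiskerRight d'.isoTop f, d'.isoBot, d'.w⟩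
    obtain ⟨e, he1, he2⟩ := exists_liftIso (hg sq₁).2 D D'
    let sq₂ : LiftSq.Sq j f := ⟨sq.top, BasedFunctor.comp d.fn f, StFib.isoWhiskerRight d.isoTop f⟩
    let E : sq₂.Lift := ⟨d.fn, d.isoTop, Iso.refl _, ext_app fun a => Category.id_comp _⟩
    let E' : sq₂.Lift := ⟨d'.fn, d'.isoTop, e, ext_app fun a => he1 a⟩
    obtain ⟨hu⟩ := (hf sq₂).2 E E'
    have hθ : ∀ b, f.toFunctor.map (hu.default.hom.toNatTrans.app b) = e.hom.toNatTrans.app b :=
      fun b => (Category.id_comp _).symm.trans (w_bot_app hu.default b)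
    refine mk_unique
      { hom := hu.default.hom
        w_top := hu.default.w_top
        w_bot := ext_app fun b => ?_ } (fun θ' => ?_)
    · show d.isoBot.hom.toNatTrans.app b ≫ g.toFunctor.map (f.toFunctor.map _) = _
      rw [hθ]
      exact he2 b
    · let Θ : D ⟶ D' :=
        { hom := BasedCategory.whiskerRight θ'.hom f
          w_top := ext_app fun a => by
            show f.toFunctor.map _ ≫ f.toFunctor.map _ = f.toFunctor.map _
            rw [← f.toFunctor.map_comp]
            exact congrArg f.toFunctor.map (w_top_app θ' a)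
          w_bot := θ'.w_bot }
      let e' : D ⟶ D' := { hom := e.hom, w_top := ext_app he1, w_bot := ext_app he2 }
      have hΘ : Θ = e' := unique_eq (hg sq₁).2 Θ e'
      let θ₂ : E ⟶ E' :=
        { hom := θ'.hom
          w_top := θ'.w_top
          w_bot := ext_app fun b =>
            (Category.id_comp _).trans (app_congr (congrArg LiftSq.Sq.Lift.Hom.hom hΘ) b) }
      exact LiftSq.Sq.Lift.hom_ext
        ((congrArg LiftSq.Sq.Lift.Hom.hom (hu.uniq θ₂) :) : θ'.hom = hu.default.hom)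

theorem liftsUniquely_fpFst {𝒴' : BasedCategory.{v₆, u₆} C} (y : 𝒴' ⥤ᵇ 𝒴)
    (hf : LiftSq.LiftsUniquely j f) : LiftSq.LiftsUniquely j (FibCat.fpFst y f) := by
  intro sq
  let sqf : LiftSq.Sq j f :=
    ⟨BasedFunctor.comp sq.top (FibCat.fpSnd y f), BasedFunctor.comp sq.bot y,
      StFib.isoWhiskerRight sq.iso y ≪≫ StFib.isoWhiskerLeft sq.top (FibCat.fpIso y f)⟩
  constructor
  · obtain ⟨d⟩ := (hf sqf).1
    let Φ : ℬ ⥤ᵇ FibCat.fp y f := FibCat.fpLift sq.bot d.fn d.isoBot
    refine ⟨⟨Φ, StkLib.natIsoMk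
      (fun a => FibC.fpIsoMk (x := Φ.toFunctor.obj (j.toFunctor.obj a)) (y := sq.top.toFunctor.obj a)
        (FibC.appIso sq.iso a) (FibC.appIso d.isoTop a) ?_)
      (fun {a b} k => FibC.fp_hom_ext (sq.iso.hom.toNatTrans.naturality k)
        (d.isoTop.hom.toNatTrans.naturality k))
      (fun a => (FibC.fp_isHomLift_iff _ _).2 (FibC.appIso_lift sq.iso rfl)),
      Iso.refl _, ext_app fun a => Category.id_comp _⟩⟩
    exact (w_app d a).symm
  · intro d d'
    let conv : sq.Lift → sqf.Lift := fun d =>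
      ⟨BasedFunctor.comp d.fn (FibCat.fpSnd y f), StFib.isoWhiskerRight d.isoTop (FibCat.fpSnd y f),
        StFib.isoWhiskerRight d.isoBot y ≪≫ StFib.isoWhiskerLeft d.fn (FibCat.fpIso y f),
        ext_app fun a => by
          have h1 := (d.isoTop.hom.toNatTrans.app a).hom.w
          have h2 := congrArg y.toFunctor.map (w_app d a)
          rw [Functor.map_comp] at h2
          show (y.toFunctor.map (d.isoBot.hom.toNatTrans.app (j.toFunctor.obj a)) ≫
              (d.fn.toFunctor.obj (j.toFunctor.obj a)).obj.iso.hom) ≫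
                f.toFunctor.map (d.isoTop.hom.toNatTrans.app a).hom.snd =
            y.toFunctor.map (sq.iso.hom.toNatTrans.app a) ≫ (sq.top.toFunctor.obj a).obj.iso.hom
          rw [← h2, Category.assoc, Category.assoc]
          exact congrArg _ h1.symm⟩
    obtain ⟨hu⟩ := (hf sqf).2 (conv d) (conv d')
    let δ : BasedFunctor.comp d.fn (FibCat.fpFst y f) ⟶ BasedFunctor.comp d'.fn (FibCat.fpFst y f) :=
      d.isoBot.inv ≫ d'.isoBot.hom
    have hδ : ∀ b, d.isoBot.hom.toNatTrans.app b ≫ δ.toNatTrans.app b =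
        d'.isoBot.hom.toNatTrans.app b := fun b => (FibC.appIso d.isoBot b).hom_inv_id_assoc _
    have hw : ∀ b, y.toFunctor.map (δ.toNatTrans.app b) ≫ (d'.fn.toFunctor.obj b).obj.iso.hom =
        (d.fn.toFunctor.obj b).obj.iso.hom ≫ f.toFunctor.map (hu.default.hom.toNatTrans.app b) := by
      intro b
      have h := w_bot_app hu.default b
      change (y.toFunctor.map (d.isoBot.hom.toNatTrans.app b) ≫ (d.fn.toFunctor.obj b).obj.iso.hom) ≫ _ =
        y.toFunctor.map (d'.isoBot.hom.toNatTrans.app b) ≫ (d'.fn.toFunctor.obj b).obj.iso.hom at h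
      rw [← hδ b, Functor.map_comp, Category.assoc, Category.assoc] at h
      have : IsIso (y.toFunctor.map (d.isoBot.hom.toNatTrans.app b)) :=
        inferInstanceAs (IsIso (y.toFunctor.map (FibC.appIso d.isoBot b).hom))
      exact ((cancel_epi (y.toFunctor.map (d.isoBot.hom.toNatTrans.app b))).1 h).symm
    let θ : d.fn ⟶ d'.fn :=
      { toNatTrans :=
          { app := fun b => ObjectProperty.homMk
              { fst := δ.toNatTrans.app b, snd := hu.default.hom.toNatTrans.app b, w := hw b }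
            naturality := fun b c k => FibC.fp_hom_ext (δ.toNatTrans.naturality k)
              (hu.default.hom.toNatTrans.naturality k) }
        isHomLift' := fun b => (FibC.fp_isHomLift_iff _ _).2 (δ.isHomLift' b) }
    refine mk_unique { hom := θ, w_top := ext_app fun a => ?_, w_bot := ext_app fun b => hδ b }
      (fun θ' => ?_)
    · refine FibC.fp_hom_ext ?_ (w_top_app hu.default a)
      show δ.toNatTrans.app (j.toFunctor.obj a) ≫ (d'.isoTop.hom.toNatTrans.app a).hom.fst =
        (d.isoTop.hom.toNatTrans.app a).hom.fst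
      have h1 : d.isoBot.hom.toNatTrans.app (j.toFunctor.obj a) ≫
          (d.isoTop.hom.toNatTrans.app a).hom.fst = sq.iso.hom.toNatTrans.app a := w_app d a
      have h2 : d'.isoBot.hom.toNatTrans.app (j.toFunctor.obj a) ≫
          (d'.isoTop.hom.toNatTrans.app a).hom.fst = sq.iso.hom.toNatTrans.app a := w_app d' a
      have : IsIso (d.isoBot.hom.toNatTrans.app (j.toFunctor.obj a)) :=
        inferInstanceAs (IsIso (FibC.appIso d.isoBot _).hom)
      rw [← hδ (j.toFunctor.obj a), Category.assoc, ← h1] at h2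
      exact (cancel_epi (d.isoBot.hom.toNatTrans.app (j.toFunctor.obj a))).1 h2
    · let Θ : conv d ⟶ conv d' :=
        { hom := BasedCategory.whiskerRight θ'.hom (FibCat.fpSnd y f)
          w_top := ext_app fun a => congrArg (fun t => t.hom.snd) (w_top_app θ' a)
          w_bot := ext_app fun b => by
            have h1 := congrArg y.toFunctor.map (w_bot_app θ' b)
            rw [Functor.map_comp] at h1
            show (y.toFunctor.map (d.isoBot.hom.toNatTrans.app b) ≫ (d.fn.toFunctor.obj b).obj.iso.hom) ≫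
                f.toFunctor.map (θ'.hom.toNatTrans.app b).hom.snd =
              y.toFunctor.map (d'.isoBot.hom.toNatTrans.app b) ≫ (d'.fn.toFunctor.obj b).obj.iso.hom
            rw [← h1, Category.assoc, Category.assoc]
            exact congrArg _ (θ'.hom.toNatTrans.app b).hom.w.symm }
      have hΘ : Θ = hu.default := hu.uniq Θ
      refine LiftSq.Sq.Lift.hom_ext (ext_app fun b => FibC.fp_hom_ext ?_
        (app_congr (congrArg LiftSq.Sq.Lift.Hom.hom hΘ) b :))
      have : IsIso (d.isoBot.hom.toNatTrans.app b) :=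
        inferInstanceAs (IsIso (FibC.appIso d.isoBot b).hom)
      exact (cancel_epi (d.isoBot.hom.toNatTrans.app b)).1 ((w_bot_app θ' b).trans (hδ b).symm)

end Groth.Agent.LiftSqLib
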